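import Groth.Agent.EtAlg.K405.Ctx
import Mathlib.FieldTheory.PurelyInseparable.PerfectClosure

/-!
# Squares (nodes N5a, N5b, N5d of job 600)
-/

set_option autoImplicit false

namespace Groth.Agent.EtAlg.K261.RefN5

open Groth.Agent.EtAlg.K405 Polynomial

/-- in characteristic two the sum of squares is the square of the sum -/
theorem sum_sq {R : Type} [CommRing R] [CharP R 2] {ι : Type} (s : Finset ι) (f : ι → R) :
    (∑ i ∈ s, f i) ^ 2 = ∑ i ∈ s, f i ^ 2 := by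
  classical
  induction s using Finset.induction_on with
  | empty => simp
  | insert a s ha ih => rw [Finset.sum_insert ha, Finset.sum_insert ha, CharTwo.add_sq, ih]

theorem charP_subfield {Ω : Type} [Field Ω] [CharP Ω 2] (N : Subfield Ω) : CharP N 2 :=
  (RingHom.charP_iff (algebraMap N Ω) (algebraMap N Ω).injective 2).2 inferInstance

/-- a separable element is a polynomial in its square -/
theorem exists_poly {Ω : Type} [Field Ω] [CharP Ω 2] (N : Subfield Ω) {x : Ω} (hx : IsSeparable N x) :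
    ∃ (n : ℕ) (m : ℕ → N), x = ∑ j ∈ Finset.range n, (m j : Ω) * (x ^ j) ^ 2 := by
  have : CharP N 2 := charP_subfield N
  have : ExpChar N 2 := ExpChar.prime Nat.prime_two
  have h1 := IntermediateField.adjoin_simple_eq_adjoin_pow_expChar_of_isSeparable N Ω hx 2
  have h2 : x ∈ IntermediateField.adjoin N {x ^ 2} := by
    rw [← h1]
    exact IntermediateField.mem_adjoin_simple_self N x
  have halg : IsAlgebraic N (x ^ 2) := hx.isIntegral.isAlgebraic.pow 2
  rw [← IntermediateField.mem_toSubalgebra, IntermediateField.adjoin_simple_toSubalgebra_of_isAlgebraic halg,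
    Algebra.adjoin_singleton_eq_range_aeval] at h2
  obtain ⟨p, hp⟩ := h2
  refine ⟨p.natDegree + 1, p.coeff, ?_⟩
  have h3 : aeval (x ^ 2) p = x := hp
  rw [aeval_eq_sum_range] at h3
  conv_lhs => rw [← h3]
  refine Finset.sum_congr rfl fun j _ => ?_
  rw [Algebra.smul_def, ← pow_mul, ← pow_mul, mul_comm 2 j]
  rfl

theorem N5a_sep' {Ω : Type} [Field Ω] [CharP Ω 2] {ι : Type} [Fintype ι] {N N' : Subfield Ω} (h : N ≤ N')
    (hsep : ∀ x ∈ N', IsSeparable N x) (b : ι → Ω) (hN : SqSpan N b) : SqSpan N' b := by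
  intro x hx
  obtain ⟨n, m, hm⟩ := exists_poly N (hsep x hx)
  choose a ha ha' using fun j => hN (m j) (m j).2
  refine ⟨fun i => ∑ j ∈ Finset.range n, a j i * x ^ j, fun i => ?_, ?_⟩
  · exact Subfield.sum_mem _ fun j _ => N'.mul_mem (h (ha j i)) (N'.pow_mem hx j)
  · have h1 : ∀ i, b i * (∑ j ∈ Finset.range n, a j i * x ^ j) ^ 2 =
        ∑ j ∈ Finset.range n, (b i * a j i ^ 2) * (x ^ j) ^ 2 := by
      intro i
      rw [sum_sq, Finset.mul_sum]
      refine Finset.sum_congr rfl fun j _ => ?_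
      ring
    simp_rw [h1]
    rw [Finset.sum_comm]
    conv_lhs => rw [hm]
    refine Finset.sum_congr rfl fun j _ => ?_
    rw [ha' j, Finset.sum_mul]

variable {Ω : Type} [NormedField Ω] [IsUltrametricDist Ω] [IsAlgClosed Ω] [CharP Ω 2] (C : Ctx Ω)

omit [IsUltrametricDist Ω] [IsAlgClosed Ω] in
theorem N5a_sep {ι : Type} [Fintype ι] {N N' : Subfield Ω} (h : N ≤ N') (hsep : ∀ x ∈ N', IsSeparable N x)
    (b : ι → Ω) (hN : SqSpan N b) : SqSpan N' b := N5a_sep' h hsep b hN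

omit [IsUltrametricDist Ω] [IsAlgClosed Ω] [CharP Ω 2] in
/-- `SqSpan` for a pair -/
theorem sqSpan_pair {N : Subfield Ω} {u v : Ω} :
    SqSpan N ![u, v] ↔ ∀ x ∈ N, ∃ a ∈ N, ∃ b ∈ N, x = u * a ^ 2 + v * b ^ 2 := by
  constructor
  · intro h x hx
    obtain ⟨a, ha, hxa⟩ := h x hx
    refine ⟨a 0, ha 0, a 1, ha 1, ?_⟩
    rw [hxa, Fin.sum_univ_two]
    rfl
  · intro h x hx
    obtain ⟨a, ha, b, hb, hxa⟩ := h x hx
    refine ⟨![a, b], fun i => ?_, ?_⟩
    · fin_cases i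
      · exact ha
      · exact hb
    · rw [Fin.sum_univ_two]
      exact hxa

omit [IsUltrametricDist Ω] [IsAlgClosed Ω] [CharP Ω 2] in
/-- `SqSpan` for a quadruple -/
theorem sqSpan_four {N : Subfield Ω} {u v w y : Ω} :
    SqSpan N ![u, v, w, y] ↔ ∀ x ∈ N, ∃ a ∈ N, ∃ b ∈ N, ∃ c ∈ N, ∃ d ∈ N,
      x = u * a ^ 2 + v * b ^ 2 + w * c ^ 2 + y * d ^ 2 := by
  constructor
  · intro h x hx
    obtain ⟨a, ha, hxa⟩ := h x hx
    refine ⟨a 0, ha 0, a 1, ha 1, a 2, ha 2, a 3, ha 3, ?_⟩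
    rw [hxa, Fin.sum_univ_four]
    rfl
  · intro h x hx
    obtain ⟨a, ha, b, hb, c, hc, d, hd, hxa⟩ := h x hx
    refine ⟨![a, b, c, d], fun i => ?_, ?_⟩
    · fin_cases i
      · exact ha
      · exact hb
      · exact hc
      · exact hd
    · rw [Fin.sum_univ_four]
      exact hxa

theorem N5b_kk : ∀ x ∈ C.kk, ∃ a ∈ C.kk, ∃ b ∈ C.kk, x = a ^ 2 + C.s * b ^ 2 := by
  have h1 : SqSpan C.k0 ![1, C.s] := sqSpan_pair.2 fun x hx => by
    obtain ⟨a, ha, b, hb, h⟩ := C.k0_sq x hx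
    exact ⟨a, ha, b, hb, by rw [one_mul]; exact h⟩
  have h2 : SqSpan C.kk ![1, C.s] := N5a_sep C.k0_le_kk (fun x hx => C.mem_kk.1 hx) _ h1
  intro x hx
  obtain ⟨a, ha, b, hb, h⟩ := sqSpan_pair.1 h2 x hx
  exact ⟨a, ha, b, hb, by rw [one_mul] at h; exact h⟩

theorem N5d_ns : ∀ x ∈ C.kk, x ^ 2 ≠ C.s := by
  intro x hx h
  have hs : IsSeparable C.k0 x := C.mem_kk.1 hx
  have : CharP C.k0 2 := charP_subfield C.k0
  have : ExpChar C.k0 2 := ExpChar.prime Nat.prime_two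
  have h1 := IntermediateField.adjoin_simple_eq_adjoin_pow_expChar_of_isSeparable C.k0 Ω hs 2
  have h2 : IntermediateField.adjoin C.k0 {x ^ 2} = ⊥ := by
    rw [IntermediateField.adjoin_simple_eq_bot_iff, h]
    exact IntermediateField.mem_bot.2 ⟨⟨C.s, C.s_mem⟩, rfl⟩
  rw [h2, IntermediateField.adjoin_simple_eq_bot_iff, IntermediateField.mem_bot] at h1
  obtain ⟨y, hy⟩ := h1
  refine C.s_not_sq y y.2 ?_
  rw [← h, ← hy]
  rfl

end Groth.Agent.EtAlg.K261.RefN5
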