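import Groth.Agent.EtAlg.K261.RefN5
import Groth.Agent.EtAlg.K956.RefN4

/-!
# Squares in `FF` and `MM a` (nodes N5c, N7c of job 600)
-/

set_option autoImplicit false

namespace Groth.Agent.EtAlg.K261.RefN7c

open Groth.Agent.EtAlg.K405 Polynomial Groth.Agent.EtAlg.K261.RefN5

variable {Ω : Type} [NormedField Ω] [IsUltrametricDist Ω] [IsAlgClosed Ω] [CharP Ω 2] (C : Ctx Ω)

omit [IsUltrametricDist Ω] [IsAlgClosed Ω] in
theorem r_sq : C.r ^ 2 = C.r + 1 := by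
  have h := C.r_eq
  have h2 : (2 : Ω) = 0 := CharTwo.two_eq_zero
  linear_combination h - (C.r + 1) * h2

omit [IsUltrametricDist Ω] [IsAlgClosed Ω] in
theorem r_mem_kk : C.r ∈ C.kk := by
  rw [C.mem_kk]
  have h2 : CharP C.k0 2 := charP_subfield C.k0
  let p : C.k0[X] := X ^ 2 + X + 1
  have hp : aeval C.r p = 0 := by
    simp only [p, map_add, map_pow, aeval_X, map_one]
    exact C.r_eq
  have hd : derivative p = 1 := by
    have h20 : (2 : C.k0[X]) = 0 := by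
      have : CharP C.k0[X] 2 := inferInstance
      exact CharTwo.two_eq_zero
    simp only [p, derivative_add, derivative_X_pow, derivative_X, derivative_one, Nat.cast_ofNat,
      Nat.reduceSub, pow_one, map_ofNat]
    rw [h20]
    ring
  have hsep : p.Separable := by
    rw [Polynomial.Separable, hd]
    exact isCoprime_one_right
  exact hsep.of_dvd (minpoly.dvd C.k0 C.r hp)

omit [IsUltrametricDist Ω] [IsAlgClosed Ω] in
/-- the two elements `s1`, `s2` are `s + σ² t` with `σ ∈ kk` -/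
theorem exists_sq (a : Ω) (ha : a = C.s1 ∨ a = C.s2) : ∃ σ ∈ C.kk, a = C.s + σ ^ 2 * C.t := by
  have h2 : (2 : Ω) = 0 := CharTwo.two_eq_zero
  have hr := r_sq C
  rcases ha with rfl | rfl
  · refine ⟨C.r ^ 2, C.kk.pow_mem (r_mem_kk C) 2, ?_⟩
    have h4 : (C.r ^ 2) ^ 2 = C.r := by
      rw [hr]
      linear_combination hr + (C.r + 1) * h2
    rw [h4]
    rfl
  · refine ⟨C.r, r_mem_kk C, ?_⟩
    rw [hr]
    rfl

omit [IsUltrametricDist Ω] [IsAlgClosed Ω] in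
theorem t_mem_FF : C.t ∈ C.FF := C.K_le_FF C.t_mem

theorem N5c_FF (a : Ω) (ha : a = C.s1 ∨ a = C.s2) : SqSpan C.FF ![1, a, C.t, a * C.t] := by
  have h2 : (2 : Ω) = 0 := CharTwo.two_eq_zero
  obtain ⟨σ, hσ, rfl⟩ := exists_sq C a ha
  have hσF : σ ∈ C.FF := C.kk_le_FF hσ
  have h0 : SqSpan C.K ![1, C.s, C.t, C.s * C.t] := sqSpan_four.2 fun x hx => by
    obtain ⟨a, ha, b, hb, c, hc, d, hd, h⟩ := C.K_sq x hx
    exact ⟨a, ha, b, hb, c, hc, d, hd, by rw [one_mul]; exact h⟩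
  have h1 : SqSpan C.FF ![1, C.s, C.t, C.s * C.t] := N5a_sep C.K_le_FF (K956.RefN4.N4c_sep C) _ h0
  refine sqSpan_four.2 fun x hx => ?_
  obtain ⟨u, hu, v, hv, w, hw, y, hy, h⟩ := sqSpan_four.1 h1 x hx
  have ht := t_mem_FF C
  refine ⟨u + σ * C.t * y, C.FF.add_mem hu (C.FF.mul_mem (C.FF.mul_mem hσF ht) hy), v, hv,
    w + σ * v, C.FF.add_mem hw (C.FF.mul_mem hσF hv), y, hy, ?_⟩
  rw [h, CharTwo.add_sq, CharTwo.add_sq]
  linear_combination (- (σ ^ 2 * C.t * v ^ 2 + σ ^ 2 * C.t ^ 2 * y ^ 2)) * h2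

theorem N7c_sq (a : Ω) (ha : a = C.s1 ∨ a = C.s2) : SqSpan (C.MM a) ![1, C.t] := by
  have h2 : (2 : Ω) = 0 := CharTwo.two_eq_zero
  have htM : C.t ∈ C.MM a := C.FF_le_MM a (t_mem_FF C)
  have hroot : ∀ y : Ω, (∃ m : ℕ, y ^ 2 ^ m = a) → y ∈ C.MM a := fun y hy =>
    (le_sup_right : _ ≤ C.MM a) (Subfield.subset_closure hy)
  obtain ⟨α, hα⟩ := IsAlgClosed.exists_pow_nat_eq a (n := 2) (by norm_num)
  have hαM : α ∈ C.MM a := hroot α ⟨1, by rw [pow_one]; exact hα⟩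
  -- the subfield of elements of `MM a` of the form `c² + t d²`
  let Q : Subfield Ω :=
    { carrier := {x | ∃ c ∈ C.MM a, ∃ d ∈ C.MM a, x = c ^ 2 + C.t * d ^ 2}
      mul_mem' := by
        rintro x y ⟨c, hc, d, hd, rfl⟩ ⟨c', hc', d', hd', rfl⟩
        refine ⟨c * c' + C.t * (d * d'), (C.MM a).add_mem ((C.MM a).mul_mem hc hc')
          ((C.MM a).mul_mem htM ((C.MM a).mul_mem hd hd')), c * d' + d * c',
          (C.MM a).add_mem ((C.MM a).mul_mem hc hd') ((C.MM a).mul_mem hd hc'), ?_⟩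
        rw [CharTwo.add_sq, CharTwo.add_sq]
        ring
      one_mem' := ⟨1, (C.MM a).one_mem, 0, (C.MM a).zero_mem, by ring⟩
      add_mem' := by
        rintro x y ⟨c, hc, d, hd, rfl⟩ ⟨c', hc', d', hd', rfl⟩
        refine ⟨c + c', (C.MM a).add_mem hc hc', d + d', (C.MM a).add_mem hd hd', ?_⟩
        rw [CharTwo.add_sq, CharTwo.add_sq]
        ring
      zero_mem' := ⟨0, (C.MM a).zero_mem, 0, (C.MM a).zero_mem, by ring⟩
      neg_mem' := by
        rintro x ⟨c, hc, d, hd, rfl⟩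
        refine ⟨c, hc, d, hd, ?_⟩
        rw [CharTwo.neg_eq]
      inv_mem' := by
        rintro x ⟨c, hc, d, hd, rfl⟩
        by_cases hx : c ^ 2 + C.t * d ^ 2 = 0
        · rw [hx, inv_zero]
          exact ⟨0, (C.MM a).zero_mem, 0, (C.MM a).zero_mem, by ring⟩
        · have hxM : c ^ 2 + C.t * d ^ 2 ∈ C.MM a :=
            (C.MM a).add_mem ((C.MM a).pow_mem hc 2) ((C.MM a).mul_mem htM ((C.MM a).pow_mem hd 2))
          refine ⟨c / (c ^ 2 + C.t * d ^ 2), (C.MM a).div_mem hc hxM,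
            d / (c ^ 2 + C.t * d ^ 2), (C.MM a).div_mem hd hxM, ?_⟩
          field_simp }
  have hQ : C.MM a ≤ Q := by
    refine sup_le ?_ ?_
    · intro x hx
      obtain ⟨u, hu, v, hv, w, hw, y, hy, h⟩ := sqSpan_four.1 (N5c_FF C a ha) x hx
      have hF := C.FF_le_MM a
      refine ⟨u + α * v, (C.MM a).add_mem (hF hu) ((C.MM a).mul_mem hαM (hF hv)), w + α * y,
        (C.MM a).add_mem (hF hw) ((C.MM a).mul_mem hαM (hF hy)), ?_⟩
      rw [h, CharTwo.add_sq, CharTwo.add_sq, mul_pow, mul_pow, hα]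
      ring
    · rw [Subfield.closure_le]
      rintro y ⟨m, hm⟩
      obtain ⟨β, hβ⟩ := IsAlgClosed.exists_pow_nat_eq y (n := 2) (by norm_num)
      refine ⟨β, hroot β ⟨m + 1, ?_⟩, 0, (C.MM a).zero_mem, ?_⟩
      · rw [pow_succ', pow_mul, hβ, hm]
      · rw [hβ]; ring
  refine sqSpan_pair.2 fun x hx => ?_
  obtain ⟨c, hc, d, hd, h⟩ := hQ hx
  exact ⟨c, hc, d, hd, by rw [one_mul]; exact h⟩

end Groth.Agent.EtAlg.K261.RefN7c
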